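import Groth.Prelude.Def_HRes
import Groth.Prelude.Def_CGrpSh2
import Mathlib.AlgebraicGeometry.Pullbacks
import Mathlib.LinearAlgebra.TensorProduct.Basis
import Mathlib.LinearAlgebra.Dimension.Free

/-!
# Jointly injective families of points and degree zero cohomology
-/

set_option autoImplicit false
set_option linter.style.haveILetI false
set_option backward.isDefEq.respectTransparency false
set_option backward.isDefEq.respectTransparency.types false

universe u

open CategoryTheory CategoryTheory.Limits AlgebraicGeometry Opposite MonoidalCategory CartesianMonoidalCategory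
open scoped TensorProduct

noncomputable section

namespace Groth.L07.AdelicInj

/-- jointly injective ring maps stay jointly injective after tensoring with a free module -/
theorem tensor_jointly_injective {K : Type u} [Field K] (B : Type u) [AddCommGroup B] [Module K B]
    {A : Type u} [AddCommGroup A] [Module K A] {ι : Type*} (C : ι → Type u) [∀ i, AddCommGroup (C i)]
    [∀ i, Module K (C i)] (φ : ∀ i, A →ₗ[K] C i) (hφ : ∀ a, (∀ i, φ i a = 0) → a = 0)
    (x : B ⊗[K] A) (hx : ∀ i, (φ i).lTensor B x = 0) : x = 0 := by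
  classical
  let ℬ := Module.Free.chooseBasis K B
  refine (TensorProduct.equivFinsuppOfBasisLeft ℬ).injective (Finsupp.ext fun b => ?_)
  rw [map_zero, Finsupp.zero_apply]
  refine hφ _ fun i => ?_
  have e : ∀ y : B ⊗[K] A, φ i (TensorProduct.equivFinsuppOfBasisLeft ℬ y b) =
      TensorProduct.equivFinsuppOfBasisLeft ℬ ((φ i).lTensor B y) b := fun y => by
    induction y with
    | zero => simp
    | tmul m n => simp
    | add y z hy hz => simp [hy, hz]
  rw [e, hx]
  simp

/-- maps from an affine base change to an affine scheme are detected on jointly injective points -/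
theorem eq_of_base_changes {K A : Type u} [Field K] [CommRing A] (α : K →+* A) {ι : Type*}
    (C : ι → Type u) [∀ i, CommRing (C i)] (φ : ∀ i, A →+* C i) (hφ : ∀ a, (∀ i, φ i a = 0) → a = 0)
    {X P : Scheme.{u}} [IsAffine X] (x : X ⟶ Spec (CommRingCat.of K)) (pX : P ⟶ X)
    (pA : P ⟶ Spec (CommRingCat.of A)) (hP : IsPullback pX pA x (Spec.map (CommRingCat.ofHom α)))
    {Z : Scheme.{u}} [IsAffine Z] (h h' : P ⟶ Z)
    (heq : ∀ (i : ι) (Q : Scheme.{u}) (q : Q ⟶ P) (r : Q ⟶ Spec (CommRingCat.of (C i))),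
      q ≫ pA = r ≫ Spec.map (CommRingCat.ofHom (φ i)) → q ≫ h = q ≫ h') :
    h = h' := by
  let B := Γ(X, ⊤)
  let β : CommRingCat.of K ⟶ B := Spec.preimage (X.isoSpec.inv ≫ x)
  letI : Algebra K B := β.hom.toAlgebra
  letI : Algebra K A := α.toAlgebra
  letI : ∀ i, Algebra K (C i) := fun i => ((φ i).comp α).toAlgebra
  let φ' : ∀ i, A →ₐ[K] C i := fun i => { φ i with commutes' := fun _ => rfl }
  have hP' : IsPullback (pX ≫ X.isoSpec.hom) pA (Spec.map (CommRingCat.ofHom (algebraMap K B)))
      (Spec.map (CommRingCat.ofHom (algebraMap K A))) := by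
    refine IsPullback.of_iso hP (Iso.refl _) X.isoSpec (Iso.refl _) (Iso.refl _) (by simp) (by simp) ?_ (by simp [RingHom.algebraMap_toAlgebra])
    show x ≫ 𝟙 _ = X.isoSpec.hom ≫ Spec.map β
    simp [β]
  let e : P ≅ Spec (CommRingCat.of (B ⊗[K] A)) := hP'.isoPullback ≪≫ pullbackSpecIso K B A
  rw [← cancel_epi e.inv]
  generalize hu : e.inv ≫ h = u
  generalize hu' : e.inv ≫ h' = u'
  have key : ∀ i, Spec.map (CommRingCat.ofHom (Algebra.TensorProduct.map (AlgHom.id K B) (φ' i)).toRingHom) ≫ u =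
      Spec.map (CommRingCat.ofHom (Algebra.TensorProduct.map (AlgHom.id K B) (φ' i)).toRingHom) ≫ u' := fun i => by
    rw [← hu, ← hu', ← Category.assoc, ← Category.assoc]
    refine heq i _ _ (Spec.map (CommRingCat.ofHom (Algebra.TensorProduct.includeRight (R := K) (A := B)).toRingHom)) ?_
    simp only [e, Iso.trans_inv, Category.assoc, IsPullback.isoPullback_inv_snd, pullbackSpecIso_inv_snd]
    rw [← Spec.map_comp, ← Spec.map_comp]
    congr 1
  refine ext_of_isAffine ?_
  rw [← cancel_mono (Scheme.ΓSpecIso (CommRingCat.of (B ⊗[K] A))).hom]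
  refine CommRingCat.hom_ext (RingHom.ext fun z => ?_)
  refine sub_eq_zero.1 (tensor_jointly_injective B C (fun i => (φ' i).toLinearMap) hφ _ fun i => ?_)
  have k := congrArg (fun t => (t.appTop ≫ (Scheme.ΓSpecIso (CommRingCat.of (B ⊗[K] C i))).hom) z) (key i)
  simp only [Scheme.Hom.comp_appTop, Category.assoc, Scheme.ΓSpecIso_naturality] at k
  rw [map_sub, sub_eq_zero]
  exact k

variable {S : Scheme.{u}} (K : Precoverage Scheme.{u})

theorem hom_constant_ext {T : Scheme.{u}} (F : BigSite.Ab K T)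
    (f : (constantSheaf (QuotSh.J K T) AddCommGrpCat.{u + 1}).obj (AddCommGrpCat.of (ULift.{u + 1} ℤ)) ⟶ F)
    (hf : f.hom.app (op (Over.mk (𝟙 T))) ((toSheafify (QuotSh.J K T)
      ((Functor.const _).obj (AddCommGrpCat.of (ULift.{u + 1} ℤ)))).app (op (Over.mk (𝟙 T))) (ULift.up 1)) = 0) :
    f = 0 := by
  refine Sheaf.hom_ext (sheafify_hom_ext _ _ _ F.property ?_)
  ext U n
  obtain ⟨n⟩ := n
  let g : U.unop ⟶ Over.mk (𝟙 T) := Over.homMk U.unop.hom
  let η := toSheafify (QuotSh.J K T) ((Functor.const (Over T)ᵒᵖ).obj (AddCommGrpCat.of (ULift.{u + 1} ℤ)))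
  have e1 : f.hom.app U (η.app U (ULift.up 1)) = 0 := by
    have hn := congrArg (fun t => f.hom.app U (t (ULift.up 1))) (η.naturality g.op)
    have hm := congrArg (fun t => t (η.app (op (Over.mk (𝟙 T))) (ULift.up 1))) (f.hom.naturality g.op)
    refine hn.trans (hm.trans ?_)
    show F.obj.map g.op _ = 0
    erw [hf]
    exact map_zero _
  have en : (ULift.up n : ULift.{u + 1} ℤ) = n • ULift.up 1 := ULift.ext _ _ (by simp)
  show f.hom.app U (η.app U (ULift.up n)) = _
  rw [en, map_zsmul, map_zsmul, e1, smul_zero]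
  rfl

theorem hom_constant_zero_of_pull {T : Scheme.{u}} (F : BigSite.Ab K T) {T' : Scheme.{u}} (g : T' ⟶ T)
    (f : (constantSheaf (QuotSh.J K T) AddCommGrpCat.{u + 1}).obj (AddCommGrpCat.of (ULift.{u + 1} ℤ)) ⟶ F)
    (hf : (BigSite.pullBig K g AddCommGrpCat.{u + 1}).map f = 0) :
    F.obj.map (Over.homMk g (Category.comp_id g) : Over.mk g ⟶ Over.mk (𝟙 T)).op (f.hom.app (op (Over.mk (𝟙 T)))
      ((toSheafify (QuotSh.J K T) ((Functor.const _).obj (AddCommGrpCat.of (ULift.{u + 1} ℤ)))).app
        (op (Over.mk (𝟙 T))) (ULift.up 1))) = 0 := by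
  have h0 : f.hom.app (op (Over.mk g)) = 0 := by
    have := congrArg (fun t : (BigSite.pullBig K g AddCommGrpCat.{u + 1}).obj _ ⟶
      (BigSite.pullBig K g AddCommGrpCat.{u + 1}).obj F => t.hom.app (op (Over.mk (𝟙 T')))) hf
    have e : (Over.map g).obj (Over.mk (𝟙 T')) = Over.mk g := by
      show Over.mk (𝟙 T' ≫ g) = _
      rw [Category.id_comp]
    exact e ▸ (show f.hom.app (op ((Over.map g).obj (Over.mk (𝟙 T')))) = 0 from this)
  have hm := congrArg (fun t => t ((toSheafify (QuotSh.J K T) ((Functor.const _).obj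
      (AddCommGrpCat.of (ULift.{u + 1} ℤ)))).app (op (Over.mk (𝟙 T))) (ULift.up 1)))
    (f.hom.naturality (Over.homMk g (Category.comp_id g) : Over.mk g ⟶ Over.mk (𝟙 T)).op)
  refine hm.symm.trans ?_
  show f.hom.app (op (Over.mk g)) _ = 0
  rw [h0]
  rfl

end Groth.L07.AdelicInj
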