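import Groth.Agent.L07.AdelicInj.Basic

/-!
# Injectivity of restriction in degree zero for dual sheaves
-/

set_option autoImplicit false
set_option linter.style.haveILetI false
set_option backward.isDefEq.respectTransparency false
set_option backward.isDefEq.respectTransparency.types false
set_option maxHeartbeats 1000000

universe u

open CategoryTheory CategoryTheory.Limits AlgebraicGeometry Opposite MonoidalCategory CartesianMonoidalCategory

open scoped MonObj Hom

noncomputable section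

namespace Groth.L07.AdelicInj

variable {S : Scheme.{u}} (K : Precoverage Scheme.{u})

theorem eq_zero_of_resHU [(QuotSh.J K S).Subcanonical] (F : BigSite.Ab K S) {κ : Type*} {T : Over S}
    {T' : κ → Over S} (g : ∀ i, T' i ⟶ T) (hF : ∀ s : F.obj.obj (op T), (∀ i, F.obj.map (g i).op s = 0) → s = 0)
    (x : BigSite.HU K F 0 T) (hx : ∀ i, HRes.resHU K F 0 (g i) x = 0) : x = 0 := by
  obtain ⟨f, rfl⟩ := (Abelian.Ext.mk₀_bijective _ _).2 x
  suffices f = 0 by rw [this]; exact Abelian.Ext.mk₀_zero _ _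
  refine hom_constant_ext K _ f ?_
  let e : (Over.map T.hom).obj (Over.mk (𝟙 T.left)) ≅ T :=
    Over.isoMk (Iso.refl _) (by
      show 𝟙 T.left ≫ T.hom = 𝟙 T.left ≫ T.hom
      rfl)
  generalize hs : f.hom.app (op (Over.mk (𝟙 T.left))) _ = s
  suffices h : F.obj.map e.inv.op s = 0 by
    have h2 := congrArg (F.obj.map e.hom.op) h
    rw [map_zero, ← ConcreteCategory.comp_apply, ← F.obj.map_comp, ← op_comp, Iso.hom_inv_id, op_id,
      F.obj.map_id] at h2
    exact h2
  refine hF _ fun i => ?_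
  have h0 := hx i
  simp only [HRes.resHU, AddMonoidHom.comp_apply, HRes.pull_apply, Sheaf.H.map_apply,
    Abelian.Ext.mapExactFunctor_mk₀, Abelian.Ext.mk₀_comp_mk₀] at h0
  have h1 := (Abelian.Ext.mk₀_bijective _ _).1 (h0.trans (Abelian.Ext.mk₀_zero _ _).symm)
  rw [← cancel_mono (HRes.pullIso K F (g i)).inv, zero_comp, Category.assoc, Iso.hom_inv_id, Category.comp_id,
    ← cancel_epi (HRes.pullConst K (g i).left (AddCommGrpCat.of (ULift.{u + 1} ℤ))).hom,
    Iso.hom_inv_id_assoc, comp_zero] at h1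
  have h2 := hom_constant_zero_of_pull K _ (g i).left f h1
  rw [hs] at h2
  let e' : T' i ≅ (Over.map T.hom).obj (Over.mk (g i).left) :=
    Over.isoMk (Iso.refl _) (by
      show 𝟙 (T' i).left ≫ (g i).left ≫ T.hom = (T' i).hom
      rw [Category.id_comp, Over.w])
  have hsq : g i ≫ e.inv = e'.hom ≫ (Over.map T.hom).map
      (Over.homMk (g i).left (Category.comp_id _) : Over.mk (g i).left ⟶ Over.mk (𝟙 T.left)) := by
    apply Over.OverMorphism.ext
    simp [e, e']
  rw [← ConcreteCategory.comp_apply, ← F.obj.map_comp, ← op_comp, hsq, op_comp, F.obj.map_comp,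
    ConcreteCategory.comp_apply]
  exact (congrArg (F.obj.map e'.hom.op) h2).trans (map_zero _)

theorem char_eq_zero [(QuotSh.J K S).Subcanonical] (G Z : Over S) [GrpObj G] [IsCommMonObj G] [GrpObj Z] [IsCommMonObj Z]
    {κ : Type*} {T : Over S} {T' : κ → Over S} (g : ∀ i, T' i ⟶ T)
    (hjoint : ∀ h h' : G ⊗ T ⟶ Z, (∀ i, (G ◁ g i) ≫ h = (G ◁ g i) ≫ h') → h = h')
    (s : (HomSh.homSh (QuotSh.J K S) (CGrpSh.pts K G) (CGrpSh.pts K Z)).obj.obj (op T))
    (hs : ∀ i, (HomSh.homSh (QuotSh.J K S) (CGrpSh.pts K G) (CGrpSh.pts K Z)).obj.map (g i).op s = 0) :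
    s = 0 := by
  change (CGrpSh.pts K G).over T ⟶ (CGrpSh.pts K Z).over T at s
  let p : Over T := Over.mk (snd G T)
  let u₀ : (CGrpSh.pts K G).obj.obj (op (G ⊗ T)) := ULift.up (Additive.ofMul (fst G T))
  have h0 : s.hom.app (op p) u₀ = 0 := by
    refine ULift.ext _ _ (Additive.toMul.injective (hjoint _ _ fun i => ?_))
    let q : Over (T' i) := Over.mk (snd G (T' i))
    let m : (Over.map (g i)).obj q ⟶ p := Over.homMk (G ◁ g i) (by
      show (G ◁ g i) ≫ snd G T = snd G (T' i) ≫ g i
      simp)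
    have hn := congrArg (fun t => t u₀) (s.hom.naturality m.op)
    have hz := congrArg (fun t : (CGrpSh.pts K G).over (T' i) ⟶ (CGrpSh.pts K Z).over (T' i) =>
      t.hom.app (op q) (ULift.up (Additive.ofMul ((G ◁ g i) ≫ fst G T)))) (hs i)
    have h3 := hn.symm.trans hz
    refine (congrArg (fun t : (CGrpSh.pts K Z).obj.obj (op (G ⊗ T' i)) => t.down.toMul) h3).trans ?_
    show (1 : G ⊗ T' i ⟶ Z) = (G ◁ g i) ≫ (1 : G ⊗ T ⟶ Z)
    exact (MonObj.comp_one (G ◁ g i)).symm
  refine Sheaf.hom_ext (NatTrans.ext (funext fun U => AddCommGrpCat.ext fun w => ?_))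
  let m : U.unop ⟶ p := Over.homMk (lift w.down.toMul U.unop.hom) (by
    show lift _ _ ≫ snd G T = _
    simp)
  have hn := congrArg (fun t => t u₀) (s.hom.naturality m.op)
  have e : ((CGrpSh.pts K G).over T).obj.map m.op u₀ = w := by
    refine ULift.ext _ _ (Additive.toMul.injective ?_)
    show m.left ≫ fst G T = _
    exact lift_fst _ _
  dsimp only at hn
  rw [ConcreteCategory.comp_apply, ConcreteCategory.comp_apply, e, h0, map_zero] at hn
  exact hn

end Groth.L07.AdelicInj
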