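import Groth.Agent.L07.AdelicInj.Basic

/-!
# Degree zero cohomology over an object is the group of sections
-/

set_option autoImplicit false
set_option linter.style.haveILetI false
set_option backward.isDefEq.respectTransparency false
set_option backward.isDefEq.respectTransparency.types false
set_option maxHeartbeats 1000000

universe u

open CategoryTheory CategoryTheory.Limits AlgebraicGeometry Opposite

noncomputable section

namespace Groth.L07.AdelicInj

variable {S : Scheme.{u}} (K : Precoverage Scheme.{u})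

/-- the constant presheaf `ℤ` -/
abbrev cst (T : Scheme.{u}) : (Over T)ᵒᵖ ⥤ AddCommGrpCat.{u + 1} :=
  (Functor.const _).obj (AddCommGrpCat.of (ULift.{u + 1} ℤ))

/-- the unit section of the constant sheaf -/
abbrev one (T : Scheme.{u}) :
    ((constantSheaf (QuotSh.J K T) AddCommGrpCat.{u + 1}).obj (AddCommGrpCat.of (ULift.{u + 1} ℤ))).obj.obj
      (op (Over.mk (𝟙 T))) :=
  (toSheafify (QuotSh.J K T) (cst T)).app (op (Over.mk (𝟙 T))) (ULift.up 1)

/-- `T` is the pull back of the terminal object -/
def topIso (T : Over S) : (Over.map T.hom).obj (Over.mk (𝟙 T.left)) ≅ T :=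
  Over.isoMk (Iso.refl _) (by show 𝟙 T.left ≫ T.hom = 𝟙 T.left ≫ T.hom; rfl)

/-- the section attached to a degree zero class -/
def sect (F : BigSite.Ab K S) (T : Over S) (x : BigSite.HU K F 0 T) : F.obj.obj (op T) :=
  F.obj.map (topIso T).inv.op
    (((Equiv.ofBijective _ (Abelian.Ext.mk₀_bijective _ _)).symm x).hom.app (op (Over.mk (𝟙 T.left))) (one K T.left))

theorem sect_mk (F : BigSite.Ab K S) (T : Over S)
    (f : (constantSheaf (QuotSh.J K T.left) AddCommGrpCat.{u + 1}).obj (AddCommGrpCat.of (ULift.{u + 1} ℤ)) ⟶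
      (BigSite.pullBig K T.hom AddCommGrpCat.{u + 1}).obj F) :
    sect K F T (Abelian.Ext.mk₀ f) = F.obj.map (topIso T).inv.op (f.hom.app (op (Over.mk (𝟙 T.left))) (one K T.left)) := by
  rw [sect, show (Equiv.ofBijective _ (Abelian.Ext.mk₀_bijective _ _)).symm (Abelian.Ext.mk₀ f) = f from
    (Equiv.ofBijective _ (Abelian.Ext.mk₀_bijective _ _)).symm_apply_apply f]

theorem sect_bijective (F : BigSite.Ab K S) (T : Over S) : Function.Bijective (sect K F T) := by
  constructor
  · intro x y h
    obtain ⟨f, rfl⟩ := (Abelian.Ext.mk₀_bijective _ _).2 x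
    obtain ⟨f', rfl⟩ := (Abelian.Ext.mk₀_bijective _ _).2 y
    rw [sect_mk, sect_mk] at h
    have h1 := congrArg (F.obj.map (topIso T).hom.op) h
    rw [← ConcreteCategory.comp_apply, ← ConcreteCategory.comp_apply, ← F.obj.map_comp, ← op_comp,
      Iso.hom_inv_id, op_id, F.obj.map_id] at h1
    have : f - f' = 0 := hom_constant_ext K _ _ (by
      show f.hom.app _ (one K T.left) - f'.hom.app _ (one K T.left) = 0
      exact sub_eq_zero.2 h1)
    rw [sub_eq_zero.1 this]
  · intro s
    let F' := (BigSite.pullBig K T.hom AddCommGrpCat.{u + 1}).obj F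
    let s' : F'.obj.obj (op (Over.mk (𝟙 T.left))) := F.obj.map (topIso T).hom.op s
    let t : ∀ U : (Over T.left)ᵒᵖ, U.unop ⟶ Over.mk (𝟙 T.left) := fun U => Over.homMk U.unop.hom (Category.comp_id _)
    let η : cst T.left ⟶ F'.obj :=
      { app := fun U => AddCommGrpCat.ofHom
          { toFun := fun n => n.down • F'.obj.map (t U).op s'
            map_zero' := zero_zsmul _
            map_add' := fun a b => add_zsmul _ a.down b.down }
        naturality := fun U V f => AddCommGrpCat.ext fun n => by
          show n.down • F'.obj.map (t V).op s' = F'.obj.map f (n.down • F'.obj.map (t U).op s')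
          rw [map_zsmul, ← ConcreteCategory.comp_apply, ← F'.obj.map_comp]
          rw [show t V = f.unop ≫ t U from Over.OverMorphism.ext (Over.w f.unop).symm, op_comp]
          rfl }
    refine ⟨Abelian.Ext.mk₀ ⟨sheafifyLift (QuotSh.J K T.left) η F'.property⟩, ?_⟩
    rw [sect_mk]
    show F.obj.map (topIso T).inv.op ((toSheafify (QuotSh.J K T.left) (cst T.left) ≫
      sheafifyLift (QuotSh.J K T.left) η F'.property).app (op (Over.mk (𝟙 T.left))) (ULift.up 1)) = s
    rw [toSheafify_sheafifyLift]
    show F.obj.map (topIso T).inv.op ((1 : ℤ) • F'.obj.map (t (op (Over.mk (𝟙 T.left)))).op s') = s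
    rw [one_zsmul, show t (op (Over.mk (𝟙 T.left))) = 𝟙 _ from Over.OverMorphism.ext rfl, op_id, F'.obj.map_id,
      ConcreteCategory.id_apply]
    show F.obj.map (topIso T).inv.op (F.obj.map (topIso T).hom.op s) = s
    rw [← ConcreteCategory.comp_apply, ← F.obj.map_comp, ← op_comp, Iso.inv_hom_id, op_id, F.obj.map_id]
    rfl

theorem pullConst_one {T T' : Scheme.{u}} (g : T' ⟶ T) :
    (HRes.pullConst K g (AddCommGrpCat.of (ULift.{u + 1} ℤ))).inv.hom.app (op (Over.mk (𝟙 T'))) (one K T') =
      (toSheafify (QuotSh.J K T) (cst T)).app (op ((Over.map g).obj (Over.mk (𝟙 T')))) (ULift.up 1) :=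
  congrArg (fun t => t.app (op (Over.mk (𝟙 T'))) (ULift.up 1))
    (Functor.toSheafify_pullbackSheafificationCompatibility (G := Over.map g) (A := AddCommGrpCat.{u + 1})
      (J := QuotSh.J K T') (K := QuotSh.J K T) (cst T))

theorem map_map_eq (F : BigSite.Ab K S) {A B B' C : Over S} (a : C ⟶ B) (b : B ⟶ A) (c : C ⟶ B') (d : B' ⟶ A)
    (s : F.obj.obj (op A)) (h : a ≫ b = c ≫ d) : F.obj.map a.op (F.obj.map b.op s) = F.obj.map c.op (F.obj.map d.op s) := by
  rw [← ConcreteCategory.comp_apply, ← ConcreteCategory.comp_apply, ← F.obj.map_comp, ← F.obj.map_comp,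
    ← op_comp, ← op_comp, h]

theorem sect_resHU (F : BigSite.Ab K S) {T T' : Over S} (g : T' ⟶ T) (x : BigSite.HU K F 0 T) :
    sect K F T' (HRes.resHU K F 0 g x) = F.obj.map g.op (sect K F T x) := by
  obtain ⟨f, rfl⟩ := (Abelian.Ext.mk₀_bijective _ _).2 x
  simp only [HRes.resHU, AddMonoidHom.comp_apply, HRes.pull_apply, Sheaf.H.map_apply,
    Abelian.Ext.mapExactFunctor_mk₀, Abelian.Ext.mk₀_comp_mk₀]
  rw [sect_mk, sect_mk]
  let W : Over T.left := (Over.map g.left).obj (Over.mk (𝟙 T'.left))
  let t : W ⟶ Over.mk (𝟙 T.left) := Over.homMk W.hom (Category.comp_id _)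
  show F.obj.map (topIso T').inv.op ((HRes.pullIso K F g).hom.hom.app (op (Over.mk (𝟙 T'.left)))
    (f.hom.app (op W) ((HRes.pullConst K g.left (AddCommGrpCat.of (ULift.{u + 1} ℤ))).inv.hom.app
      (op (Over.mk (𝟙 T'.left))) (one K T'.left)))) = _
  rw [pullConst_one]
  have h1 : (toSheafify (QuotSh.J K T.left) (cst T.left)).app (op W) (ULift.up 1) =
      ((constantSheaf (QuotSh.J K T.left) AddCommGrpCat.{u + 1}).obj (AddCommGrpCat.of (ULift.{u + 1} ℤ))).obj.map
        t.op (one K T.left) :=
    congrArg (fun s => s (ULift.up 1)) ((toSheafify (QuotSh.J K T.left) (cst T.left)).naturality t.op)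
  have h2 : f.hom.app (op W) ((toSheafify (QuotSh.J K T.left) (cst T.left)).app (op W) (ULift.up 1)) =
      F.obj.map ((Over.map T.hom).map t).op (f.hom.app (op (Over.mk (𝟙 T.left))) (one K T.left)) :=
    (congrArg (f.hom.app (op W)) h1).trans
      (congrArg (fun s => s (one K T.left)) (f.hom.naturality t.op))
  erw [h2]
  simp only [HRes.pullIso, GrothendieckTopology.overMapPullbackComp, GrothendieckTopology.overMapPullbackCongr,
    Functor.sheafPushforwardContinuousComp', Functor.sheafPushforwardContinuousIso,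
    Functor.sheafPushforwardContinuousNatTrans, Iso.trans_hom, Iso.app_hom]
  simp
  erw [← ConcreteCategory.comp_apply, ← ConcreteCategory.comp_apply, ← ConcreteCategory.comp_apply]
  simp only [← F.obj.map_comp, ← op_comp]
  erw [Category.id_comp]
  refine map_map_eq K F _ _ _ _ _ ?_
  apply Over.OverMorphism.ext
  simp [topIso, t, W]

end Groth.L07.AdelicInj
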