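import Groth.Agent.L12.PointsProd

/-!
# Points with values in restricted products
-/

set_option autoImplicit false
set_option linter.style.haveILetI false
set_option backward.isDefEq.respectTransparency false
set_option backward.isDefEq.respectTransparency.types false

universe u

open CategoryTheory CategoryTheory.Limits AlgebraicGeometry Opposite

noncomputable section

namespace Groth.L07.AdelicInj

/-- points of a separated scheme with values in a reduced ring are detected by jointly injective maps -/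
theorem points_ext {R A : Type u} [CommRing R] [CommRing A] [IsReduced A] (G : Over (Spec (CommRingCat.of R)))
    [IsSeparated G.hom] [QuasiSeparatedSpace G.left] {ι : Type u} (C : ι → Type u) [∀ i, CommRing (C i)]
    (φ : ∀ i, A →+* C i) (hφ : ∀ a, (∀ i, φ i a = 0) → a = 0)
    (f g : Spec (CommRingCat.of A) ⟶ G.left) (hfg : f ≫ G.hom = g ≫ G.hom)
    (h : ∀ i, Spec.map (CommRingCat.ofHom (φ i)) ≫ f = Spec.map (CommRingCat.ofHom (φ i)) ≫ g) : f = g := by
  haveI : IsReduced (CommRingCat.of A : CommRingCat.{u}) := ‹IsReduced A›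
  let Φ : A →+* ∀ i, C i := Pi.ringHom φ
  have hker : RingHom.ker Φ = ⊥ := (RingHom.injective_iff_ker_eq_bot Φ).1 ((injective_iff_map_eq_zero Φ).2
    fun a ha => hφ a fun i => congrFun ha i)
  haveI : IsDominant (Spec.map (CommRingCat.ofHom Φ)) := by
    refine ⟨?_⟩
    exact (PrimeSpectrum.denseRange_comap_iff_ker_le_nilRadical Φ).2 (hker ▸ bot_le)
  refine ext_of_isDominant_of_isSeparated G.hom hfg (Spec.map (CommRingCat.ofHom Φ)) ?_
  refine pointsPi_injective (fun i => CommRingCat.of (C i)) G.left (funext fun i => ?_)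
  show Spec.map _ ≫ Spec.map _ ≫ f = Spec.map _ ≫ Spec.map _ ≫ g
  rw [← Spec.map_comp_assoc, ← Spec.map_comp_assoc]
  exact h i

/-- a point of a scheme of finite type is integral almost everywhere -/
theorem eventually_integral {R A : Type u} [CommRing R] [CommRing A] {X : Scheme.{u}}
    (f : X ⟶ Spec (CommRingCat.of R)) [LocallyOfFiniteType f] {ι : Type u} (C : ι → Type u) [∀ i, Field (C i)]
    (O : ∀ i, ValuationSubring (C i)) (φ : ∀ i, A →+* C i) (τ : R →+* A)
    (hA : ∀ a, ∀ᶠ i in Filter.cofinite, φ i a ∈ O i) (hR : ∀ᶠ i in Filter.cofinite, ∀ r, φ i (τ r) ∈ O i)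
    (P : Spec (CommRingCat.of A) ⟶ X) (hP : P ≫ f = Spec.map (CommRingCat.ofHom τ)) :
    ∀ᶠ i in Filter.cofinite, ∃ Q : Spec (CommRingCat.of (O i)) ⟶ X,
      Spec.map (CommRingCat.ofHom (O i).subtype) ≫ Q = Spec.map (CommRingCat.ofHom (φ i)) ≫ P := by
  classical
  let Good : A → Prop := fun a => ∀ᶠ i in Filter.cofinite, ∀ hu : φ i a ≠ 0, (φ i a)⁻¹ ∈ O i →
    ∃ Q : Spec (CommRingCat.of (O i)) ⟶ X,
      Spec.map (CommRingCat.ofHom (O i).subtype) ≫ Q = Spec.map (CommRingCat.ofHom (φ i)) ≫ P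
  have hgood : ∀ x : Spec (CommRingCat.of A), ∃ a : A, a ∉ x.asIdeal ∧ Good a := by
    intro x
    obtain ⟨U, hU, hxU, -⟩ := exists_isAffineOpen_mem_and_subset (x := P x) (U := ⊤) trivial
    obtain ⟨_, ⟨a, rfl⟩, hxa, haU⟩ :=
      PrimeSpectrum.isTopologicalBasis_basic_opens.exists_subset_of_mem_open (u := (P ⁻¹ᵁ U).1) hxU (P ⁻¹ᵁ U).2
    refine ⟨a, hxa, ?_⟩
    let j : Spec (CommRingCat.of (Localization.Away a)) ⟶ Spec (CommRingCat.of A) :=
      Spec.map (CommRingCat.ofHom (algebraMap A (Localization.Away a)))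
    have hr : Set.range (j ≫ P) ⊆ Set.range hU.fromSpec := by
      rw [hU.range_fromSpec]
      rintro _ ⟨y, rfl⟩
      exact haU ((PrimeSpectrum.localization_away_comap_range (Localization.Away a) a).le ⟨y, rfl⟩)
    let θ : Γ(X, U) ⟶ CommRingCat.of (Localization.Away a) :=
      Spec.preimage (IsOpenImmersion.lift hU.fromSpec (j ≫ P) hr)
    have hθ : Spec.map θ ≫ hU.fromSpec = j ≫ P := by
      rw [Spec.map_preimage, IsOpenImmersion.lift_fac]
    let χ : CommRingCat.of R ⟶ Γ(X, U) := Spec.preimage (hU.fromSpec ≫ f)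
    have hft : χ.hom.FiniteType := by
      apply (HasRingHomProperty.Spec_iff (P := @LocallyOfFiniteType)).1
      rw [Spec.map_preimage]
      infer_instance
    have hχ : χ ≫ θ = CommRingCat.ofHom ((algebraMap A (Localization.Away a)).comp τ) := by
      apply Spec.map_injective
      rw [Spec.map_comp, Spec.map_preimage (hU.fromSpec ≫ f), reassoc_of% hθ, hP, CommRingCat.ofHom_comp,
        Spec.map_comp]
    algebraize [χ.hom]
    obtain ⟨s, hs⟩ := Algebra.FiniteType.out (R := R) (A := Γ(X, U))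
    have hnum : ∀ c : Γ(X, U), ∃ (b : A) (m : ℕ),
        θ.hom c * algebraMap A (Localization.Away a) (a ^ m) = algebraMap A (Localization.Away a) b := fun c => by
      obtain ⟨⟨b, ⟨_, m, rfl⟩⟩, h⟩ := IsLocalization.surj (Submonoid.powers a) (θ.hom c)
      exact ⟨b, m, h⟩
    choose num ex hnum using hnum
    filter_upwards [hR, (Filter.eventually_all_finset s).2 fun c _ => hA (num c)] with i hi hs' hu hinv
    let ℓ : Localization.Away a →+* C i := IsLocalization.Away.lift a (isUnit_iff_ne_zero.2 hu)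
    have hℓ : ∀ b : A, ℓ (algebraMap A _ b) = φ i b := IsLocalization.Away.lift_eq a _
    have hmem : ∀ c : Γ(X, U), ℓ (θ.hom c) ∈ O i := by
      intro c
      have hc : c ∈ Algebra.adjoin R (↑s : Set Γ(X, U)) := hs ▸ Algebra.mem_top
      induction hc using Algebra.adjoin_induction with
      | mem c hc =>
        have h := congrArg ℓ (hnum c)
        rw [map_mul, hℓ, hℓ, map_pow] at h
        rw [show ℓ (θ.hom c) = φ i (num c) * (φ i a)⁻¹ ^ ex c by
          rw [← h, inv_pow, mul_assoc, mul_inv_cancel₀ (pow_ne_zero _ hu), mul_one]]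
        exact mul_mem (hs' c hc) (pow_mem hinv _)
      | algebraMap r =>
        rw [show θ.hom (algebraMap R Γ(X, U) r) = (χ ≫ θ).hom r from rfl, hχ]
        show ℓ (algebraMap A _ (τ r)) ∈ _
        rw [hℓ]
        exact hi r
      | add x y _ _ hx hy => rw [map_add, map_add]; exact add_mem hx hy
      | mul x y _ _ hx hy => rw [map_mul, map_mul]; exact mul_mem hx hy
    let ψ : Γ(X, U) →+* O i := (ℓ.comp θ.hom).codRestrict (O i).toSubring hmem
    refine ⟨Spec.map (CommRingCat.ofHom ψ) ≫ hU.fromSpec, ?_⟩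
    rw [← Spec.map_comp_assoc, show CommRingCat.ofHom ψ ≫ CommRingCat.ofHom (O i).subtype =
      θ ≫ CommRingCat.ofHom ℓ from rfl, Spec.map_comp_assoc, hθ, ← Spec.map_comp_assoc,
      ← CommRingCat.ofHom_comp]
    congr 3
    exact RingHom.ext hℓ
  choose a ha hG using hgood
  have htop : (1 : A) ∈ Ideal.span (Set.range a) := by
    rw [← Ideal.eq_top_iff_one]
    by_contra hne
    obtain ⟨M, hM, hle⟩ := Ideal.exists_le_maximal _ hne
    exact ha ⟨M, hM.isPrime⟩ (hle (Ideal.subset_span ⟨_, rfl⟩))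
  obtain ⟨c, hc⟩ := (Finsupp.mem_span_range_iff_exists_finsupp.1 htop)
  filter_upwards [(Filter.eventually_all_finset c.support).2 fun x _ => hG x,
    (Filter.eventually_all_finset c.support).2 fun x _ => hA (c x),
    (Filter.eventually_all_finset c.support).2 fun x _ => hA (a x)] with i hiG hic hia
  have h1 := congrArg (φ i) hc
  simp only [Finsupp.sum, map_sum, smul_eq_mul, map_mul, map_one] at h1
  by_contra hcon
  have hall : ∀ (x) (hx : x ∈ c.support), (⟨_, mul_mem (hic x hx) (hia x hx)⟩ : O i) ∈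
      IsLocalRing.maximalIdeal (O i) := by
    intro x hx
    refine Ideal.mul_mem_left _ (⟨_, hic x hx⟩ : O i) (b := (⟨_, hia x hx⟩ : O i)) ?_
    intro hu
    obtain ⟨w, hw⟩ := hu
    have hw' : φ i (a x) * ((↑w⁻¹ : O i) : C i) = 1 := by
      have := congrArg (fun t : O i => (t : C i)) (w.mul_inv)
      rw [hw] at this
      exact this
    have hne : φ i (a x) ≠ 0 := left_ne_zero_of_mul_eq_one hw'
    refine hcon (hiG x hx hne ?_)
    rw [inv_eq_of_mul_eq_one_right hw']
    exact (↑w⁻¹ : O i).2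
  have hone : (1 : O i) ∈ IsLocalRing.maximalIdeal (O i) := by
    have e : (1 : O i) = ∑ x ∈ c.support.attach, (⟨_, mul_mem (hic x.1 x.2) (hia x.1 x.2)⟩ : O i) := by
      refine Subtype.ext ?_
      rw [AddSubmonoidClass.coe_finset_sum]
      exact h1.symm.trans (Finset.sum_attach c.support fun x => φ i (c x) * φ i (a x)).symm
    rw [e]
    exact Ideal.sum_mem _ fun x _ => hall x.1 x.2
  exact (Ideal.ne_top_iff_one _).1 (IsLocalRing.maximalIdeal.isMaximal (O i)).ne_top hone

/-- families of points, almost all integral, come from the restricted product -/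
theorem exists_point {R A : Type u} [CommRing R] [CommRing A] {X : Scheme.{u}}
    (f : X ⟶ Spec (CommRingCat.of R)) [CompactSpace X] [QuasiSeparatedSpace X] {ι : Type u} (C : ι → Type u)
    [∀ i, Field (C i)] (φ : ∀ i, A →+* C i) (τ : R →+* A)
    (Rv : ∀ i, Subring (C i)) (hR : ∀ i r, φ i (τ r) ∈ Rv i) (q : (∀ i, Rv i) →+* A)
    (hq : ∀ (i) (b : ∀ i, Rv i), φ i (q b) = b i) (hinj : ∀ a, (∀ i, φ i a = 0) → a = 0)
    (y : ∀ i, Spec (CommRingCat.of (Rv i)) ⟶ X)
    (hy : ∀ i, y i ≫ f = Spec.map (CommRingCat.ofHom ((φ i).comp τ |>.codRestrict (Rv i) (hR i)))) :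
    ∃ P : Spec (CommRingCat.of A) ⟶ X, P ≫ f = Spec.map (CommRingCat.ofHom τ) ∧
      ∀ i, Spec.map (CommRingCat.ofHom (φ i)) ≫ P = Spec.map (CommRingCat.ofHom (Rv i).subtype) ≫ y i := by
  obtain ⟨g, hg⟩ := (Groth.L12.PointsProd.bijective (A := fun i => CommRingCat.of (Rv i)) (X := X)).2 y
  have hg' : ∀ i, Spec.map (CommRingCat.ofHom (Pi.evalRingHom (fun i => Rv i) i)) ≫ g = y i := congrFun hg
  let τ' : R →+* ∀ i, Rv i := Pi.ringHom fun i => ((φ i).comp τ).codRestrict (Rv i) (hR i)
  have hgf : g ≫ f = Spec.map (CommRingCat.ofHom τ') := by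
    refine pointsPi_injective (fun i => CommRingCat.of (Rv i)) _ (funext fun i => ?_)
    show Spec.map _ ≫ g ≫ f = Spec.map _ ≫ Spec.map _
    rw [← Category.assoc]
    refine (congrArg (· ≫ f) (hg' i)).trans ?_
    rw [hy i, ← Spec.map_comp]
    rfl
  have hqτ : q.comp τ' = τ := RingHom.ext fun r => sub_eq_zero.1 (hinj _ fun i => by
    rw [map_sub, RingHom.comp_apply, hq]
    exact sub_self _)
  refine ⟨Spec.map (CommRingCat.ofHom q) ≫ g, ?_, fun i => ?_⟩
  · rw [Category.assoc, hgf, ← Spec.map_comp, ← CommRingCat.ofHom_comp, hqτ]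
  · rw [← hg' i, ← Spec.map_comp_assoc, ← Spec.map_comp_assoc]
    refine congrArg (fun t => Spec.map t ≫ g) ?_
    exact CommRingCat.hom_ext (RingHom.ext fun b => hq i b)

end Groth.L07.AdelicInj
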